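import Cfsg.Agent.H714.K4.Semi
import Cfsg.Agent.H364.ML

/-!
# Four characters of odd degree (S4947, helper714): minimal normal subgroups
-/

set_option autoImplicit false

namespace Cfsg.Agent.H714.K4

open Cfsg Subgroup Cfsg.Agent.Characters.Core

universe u

/-- A minimal normal subgroup is a `p`-group or perfect, with a simple direct factor. -/
theorem minimal_cases {G : Type u} [Group G] [Finite G] (N : Subgroup G) [hNn : N.Normal] (hN : N ≠ ⊥)
    (hmin : ∀ M : Subgroup G, M.Normal → M ≤ N → M = ⊥ ∨ M = N) :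
    (∃ r, r.Prime ∧ IsPGroup r N) ∨ (Comp N ∧ commutator N = ⊤) := by
  rcases H364.minimal_normal_cases2 N hN hmin with h | ⟨k, T, hk, hTN, hTs, hTna, -, -, hcom, hsup⟩
  · exact Or.inl h
  right
  have hnorm : ∀ i, N ≤ normalizer (T i : Set G) := by
    intro i
    rw [← hsup]
    refine iSup_le fun j => ?_
    by_cases hij : j = i
    · rw [hij]
      exact le_normalizer
    · intro x hx
      rw [mem_normalizer_iff]
      intro y
      have hc : ∀ z ∈ T i, x * z * x⁻¹ = z := fun z hz => by
        rw [(hcom j i hij x hx z hz).eq, mul_inv_cancel_right]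
      constructor
      · intro hy
        rw [hc y hy]
        exact hy
      · intro hy
        have h1 := hcom j i hij x hx _ hy
        have h2 : y = x * y * x⁻¹ := by
          have h3 : x * (x * y * x⁻¹) = (x * y * x⁻¹) * x := h1
          have h4 : x * y * x⁻¹ * x = x * y := by group
          rw [h4] at h3
          exact (mul_left_cancel h3).symm
        rw [h2]
        exact hy
  have e : ∀ i, (T i).subgroupOf N ≃* T i := fun i => subgroupOfEquivOfLe (hTN i)
  have hna : ∀ i, ¬ IsMulCommutative ((T i).subgroupOf N) := by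
    intro i h
    apply hTna i
    intro a b
    have h1 := h.is_comm.comm ((e i).symm a) ((e i).symm b)
    have h2 := congrArg (e i) h1
    rwa [map_mul, map_mul, (e i).apply_symm_apply, (e i).apply_symm_apply] at h2
  have hs : ∀ i, IsSimpleGroup ((T i).subgroupOf N) := by
    intro i
    have := hTs i
    exact (e i).isSimpleGroup
  refine ⟨⟨(T ⟨0, hk⟩).subgroupOf N, ?_, hs _, hna _, ?_, ?_⟩, ?_⟩
  · refine ⟨fun x hx n => ?_⟩
    rw [mem_subgroupOf] at hx ⊢
    exact ((mem_normalizer_iff.1 (hnorm _ n.2)) _).1 hx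
  · have h1 : N ≤ ((T ⟨0, hk⟩).subgroupOf N ⊔ centralizer ((T ⟨0, hk⟩).subgroupOf N : Set N)).map N.subtype := by
      conv_lhs => rw [← hsup]
      refine iSup_le fun j => ?_
      by_cases hj : j = ⟨0, hk⟩
      · rw [hj]
        intro x hx
        exact ⟨⟨x, hTN _ hx⟩, mem_sup_left (mem_subgroupOf.2 hx), rfl⟩
      · intro x hx
        refine ⟨⟨x, hTN _ hx⟩, mem_sup_right (mem_centralizer_iff.2 fun y hy => ?_), rfl⟩
        exact Subtype.ext (hcom j _ hj x hx y (mem_subgroupOf.1 hy)).eq.symm
    rw [eq_top_iff]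
    intro x _
    obtain ⟨y, hy, hyx⟩ := h1 x.2
    have : y = x := Subtype.ext hyx
    rwa [← this]
  · intro hC
    by_cases hj : ∃ j, j ≠ (⟨0, hk⟩ : Fin k)
    · obtain ⟨j, hj⟩ := hj
      have h1 : (T j).subgroupOf N ≤ centralizer ((T ⟨0, hk⟩).subgroupOf N : Set N) := by
        intro x hx
        rw [mem_centralizer_iff]
        intro y hy
        exact Subtype.ext (hcom j _ hj x (mem_subgroupOf.1 hx) y (mem_subgroupOf.1 hy)).eq.symm
      have := hs j
      exact (four_dvd (hna j)).trans (card_dvd_of_le h1)
    · exfalso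
      push Not at hj
      apply hC
      have h1 : (T ⟨0, hk⟩).subgroupOf N = ⊤ := by
        rw [subgroupOf_eq_top]
        conv_lhs => rw [← hsup]
        exact iSup_le fun j => by rw [hj j]
      have := hs ⟨0, hk⟩
      have h2 := inf_centralizer (hna ⟨0, hk⟩)
      rwa [h1, top_inf_eq, ← h1] at h2
  · have h1 : (⁅N, N⁆ : Subgroup G) ≤ N := commutator_le_left N N
    rcases hmin ⁅N, N⁆ inferInstance h1 with h | h
    · exfalso
      rw [commutator_eq_bot_iff_le_centralizer] at h
      apply hTna ⟨0, hk⟩
      intro a b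
      exact Subtype.ext (mem_centralizer_iff.1 (h (hTN _ a.2)) b (hTN _ b.2)).symm
    · have h2 : (commutator N).map N.subtype = (⊤ : Subgroup N).map N.subtype := by
        rw [commutator_def, map_commutator, ← MonoidHom.range_eq_map, N.range_subtype, h]
      exact map_injective N.subtype_injective h2

end Cfsg.Agent.H714.K4
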