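import Cfsg.Agent.H714.K4.Quot
import Cfsg.Agent.H714.K4.MinN
import Cfsg.Agent.H455.FewOdd
import Cfsg.Agent.Characters.Ito
import Cfsg.Agent.H364.Iso2
import Cfsg.Agent.H670.PSing
import Cfsg.Agent.CharactersDeep.CliffordSum
import Cfsg.Agent.Blocks.Knorr

/-!
# Four characters of odd degree (S4947, helper714): the reduction

* `k0_le_four` : `k0 G = 4`, `N` normal of odd index: `k0 N ≤ 4`;
* `abelian_case` : the case of a normal abelian Sylow `2`-subgroup;
* `IdxTwo` : the statement for the groups with a subgroup of index `2`;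
* `reduction` : `IdxTwo` and `RowA S` for the simple non-abelian groups `S` imply S4947.
-/

set_option autoImplicit false

namespace Cfsg.Agent.H714.K4

open Cfsg Subgroup Cfsg.Agent.Characters.Core
open scoped Pointwise

universe u

section

variable {G : Type u} [Group G] [Finite G]

omit [Finite G] in
theorem k0_of_all (h : ∀ χ : IrrCharacter G, ¬ 2 ∣ charDegree (χ : G → ℂ)) :
    k0 G = Nat.card (IrrCharacter G) :=
  Nat.card_congr (Equiv.subtypeUnivEquiv h)

theorem k0_of_odd_card (h : Odd (Nat.card G)) : k0 G = Nat.card (ConjClasses G) := by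
  rw [k0_of_all, card_irr]
  intro χ h2
  have h3 := Blocks.Knorr.charDegree_dvd χ.2
  exact Nat.not_even_iff_odd.2 h (even_iff_two_dvd.2 (h2.trans h3))

/-- The number of characters of odd degree of a normal subgroup of odd index. -/
theorem k0_le_four (N : Subgroup G) [hN : N.Normal] (h4 : k0 G = 4) (hodd : ¬ 2 ∣ N.index) : k0 N ≤ 4 := by
  classical
  have := Fintype.ofFinite G
  have := Fintype.ofFinite N
  have hle := k0_le_of_surjective (QuotientGroup.mk' N) (QuotientGroup.mk'_surjective N)
  have hcard : Nat.card (G ⧸ N) = N.index := (index_eq_card N).symm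
  have ho : Odd (Nat.card (G ⧸ N)) := by
    rw [hcard]
    exact Nat.not_even_iff_odd.1 (fun h => hodd h.two_dvd)
  have hk := k0_of_odd_card ho
  rcases H455.FewOdd.card_mem ho (by omega) with ⟨a, b⟩ | ⟨a, b⟩ | ⟨a, -⟩ | ⟨a, -⟩
  · have h1 : N = ⊤ := index_eq_one.1 (by rw [← hcard, b])
    subst h1
    rw [k0_congr (topEquiv (G := G)), h4]
  · have h1 : (odd G \ oddK N).ncard = 1 := by
      rw [Set.ncard_sdiff (fun _ h => h.1) (oddK_finite N), ← k0_eq, ncard_oddK]
      omega
    obtain ⟨χ₀, hχ₀⟩ := Set.ncard_eq_one.1 h1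
    have hover : ∀ θ ∈ odd N, θ ≠ 1 → classInner (fun n : N => χ₀ n) θ ≠ 0 := by
      intro θ hθ hne
      obtain ⟨n, hn0, hn⟩ := isIrr_apply_one hθ.1
      obtain ⟨χ, hχ, hc⟩ := H628.PPrimeKer.exists_over (p := 2) N hodd (isIrr_isCharacter hθ.1) hn (by
        have := hθ.2
        rwa [H670.PSing.charDegree_eq_of hn] at this)
      have hmem : (χ : G → ℂ) ∈ odd G \ oddK N := by
        refine ⟨⟨χ.2, hχ⟩, fun h => hc ?_⟩
        have h2 : (fun n : N => (χ : G → ℂ) n) = (χ : G → ℂ) 1 • (1 : N → ℂ) := by
          funext n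
          rw [h.2 n n.2, Pi.smul_apply, Pi.one_apply, smul_eq_mul, mul_one]
        rw [h2, classInner_smul_right, classInner_irr_ne hθ.1 isIrr_one hne, mul_zero]
      rw [hχ₀, Set.mem_singleton_iff] at hmem
      rw [← hmem]
      intro h0
      apply hc
      rw [← classInner_conj_symm, h0, map_zero]
    have hχ₀i : IsIrrCharacter G χ₀ := by
      have h2 : χ₀ ∈ odd G \ oddK N := by rw [hχ₀]; rfl
      exact h2.1.1
    by_cases hex : ∃ θ₀ ∈ odd N, θ₀ ≠ 1
    · obtain ⟨θ₀, h0, h01⟩ := hex
      have hsub : odd N ⊆ {1} ∪ Set.range (fun q : G ⧸ N => θ₀ ∘ (MulAut.conjNormal q.out : MulAut N)) := by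
        intro θ hθ
        by_cases hne : θ = 1
        · exact Or.inl hne
        · right
          obtain ⟨g, hg⟩ := Characters.Clifford.exists_conj_of_constituents N hχ₀i h0.1 hθ.1 (hover θ₀ h0 h01)
            (hover θ hθ hne)
          refine ⟨(g : G ⧸ N), ?_⟩
          obtain ⟨n, hn⟩ := QuotientGroup.mk_out_eq_mul N g
          show θ₀ ∘ (MulAut.conjNormal (Quotient.out (g : G ⧸ N)) : MulAut N) = θ
          have h5 : Quotient.out (g : G ⧸ N) = g * n := hn
          rw [h5, CharactersDeep.CliffordSum.comp_conjNormal_mul, ← hg]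
          funext x
          show θ (MulAut.conjNormal (n : G) x) = θ x
          have h6 : (MulAut.conjNormal (n : G) : MulAut N) x = n * x * n⁻¹ := by
            apply Subtype.ext
            rw [MulAut.conjNormal_apply]
            rfl
          rw [h6]
          exact isIrr_isClassFunction hθ.1 x n
      rw [k0_eq]
      refine (Set.ncard_le_ncard hsub (Set.toFinite _)).trans ?_
      refine (Set.ncard_union_le _ _).trans ?_
      rw [Set.ncard_singleton]
      have h6 : (Set.range (fun q : G ⧸ N => θ₀ ∘ (MulAut.conjNormal q.out : MulAut N))).ncard ≤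
          Nat.card (G ⧸ N) := by
        rw [← Nat.card_coe_set_eq]
        exact Finite.card_range_le _
      omega
    · push Not at hex
      rw [k0_eq]
      refine (Set.ncard_le_ncard (t := {1}) (fun θ hθ => hex θ hθ) (Set.toFinite _)).trans ?_
      rw [Set.ncard_singleton]
      norm_num
  · omega
  · omega

/-- The case of a normal abelian Sylow `2`-subgroup. -/
theorem abelian_case (N : Subgroup G) [hN : N.Normal] (h4 : k0 G = 4) (hodd : ¬ 2 ∣ N.index)
    (hc : ∀ a ∈ N, ∀ b ∈ N, a * b = b * a) (h2N : IsPGroup 2 N) (P : Sylow 2 G) : (commutator ↥P).index = 4 := by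
  classical
  have hall : ∀ χ : IrrCharacter G, ¬ 2 ∣ charDegree (χ : G → ℂ) := by
    rintro ⟨χ, hχ⟩ h2
    obtain ⟨n, ρ, hρ, rfl⟩ := hχ
    have h1 := Characters.Ito.finrank_dvd_index ρ N hc
    have h3 : charDegree (ρ.character : G → ℂ) = Module.finrank ℂ (Fin n → ℂ) :=
      H670.PSing.charDegree_eq_of (Representation.char_one ρ)
    exact hodd ((h3 ▸ h2 : 2 ∣ Module.finrank ℂ (Fin n → ℂ)).trans h1)
  -- the order of `G` modulo eight
  have hmod : Nat.card G % 8 = 4 := by
    have := finite_irr (G := G)
    have := Fintype.ofFinite (IrrCharacter G)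
    have h1 := Cfsg.Agent.H686.CharKit.sum_deg_sq (G := G)
    have h2 : Fintype.card (IrrCharacter G) = 4 := by
      rw [← Nat.card_eq_fintype_card, ← k0_of_all hall, h4]
    have h3 : ∑ χ : IrrCharacter G, charDegree (χ : G → ℂ) ^ 2 ≡ ∑ χ : IrrCharacter G, 1 [MOD 8] := by
      apply Nat.ModEq.sum
      intro χ _
      have h := hall χ
      obtain ⟨m, hm⟩ : ∃ m, charDegree (χ : G → ℂ) = 2 * m + 1 := ⟨charDegree (χ : G → ℂ) / 2, by omega⟩
      rw [hm]
      show (2 * m + 1) ^ 2 % 8 = 1 % 8
      have h5 : (2 * m + 1) ^ 2 = 4 * (m * (m + 1)) + 1 := by ring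
      obtain ⟨c, hc⟩ := (Nat.even_mul_succ_self m).two_dvd
      rw [h5, hc]
      omega
    rw [h1, Finset.sum_const, Finset.card_univ, h2] at h3
    exact h3
  -- `P = N`
  have hPN : (P : Subgroup G) = N := by
    have hle : N ≤ P := by
      obtain ⟨Q, hQ⟩ := h2N.exists_le_sylow
      obtain ⟨g, hg⟩ := MulAction.exists_smul_eq G Q P
      intro x hx
      have h1 : g⁻¹ * x * g⁻¹⁻¹ ∈ Q := hQ (hN.conj_mem x hx g⁻¹)
      rw [← hg]
      show x ∈ (MulAut.conj g • (Q : Subgroup G))
      rw [mem_pointwise_smul_iff_inv_smul_mem]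
      have h2 : (MulAut.conj g)⁻¹ • x = g⁻¹ * x * g⁻¹⁻¹ := by
        rw [← map_inv]
        rfl
      rw [h2]
      exact h1
    refine le_antisymm ?_ hle
    have h1 : (N.relIndex P) ∣ N.index := relIndex_dvd_index_of_normal N P
    have h2 : ∃ k, N.relIndex P = 2 ^ k := by
      have h3 : N.relIndex (P : Subgroup G) ∣ Nat.card P := N.relIndex_dvd_card P
      obtain ⟨k, hk⟩ := IsPGroup.iff_card.1 P.isPGroup'
      rw [hk] at h3
      obtain ⟨j, -, hj⟩ := (Nat.dvd_prime_pow Nat.prime_two).1 h3
      exact ⟨j, hj⟩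
    obtain ⟨k, hk⟩ := h2
    rcases Nat.eq_zero_or_pos k with rfl | hpos
    · exact relIndex_eq_one.1 hk
    · exact absurd ((dvd_pow_self 2 hpos.ne').trans (hk ▸ h1)) hodd
  have h1 : commutator ↥P = ⊥ := by
    rw [_root_.commutator_def, commutator_eq_bot_iff_le_centralizer]
    intro a _
    rw [mem_centralizer_iff]
    intro b _
    apply Subtype.ext
    have ha : (a : G) ∈ N := by rw [← hPN]; exact a.2
    have hb : (b : G) ∈ N := by rw [← hPN]; exact b.2
    exact hc _ hb _ ha
  rw [h1, index_bot]
  show Nat.card (P : Subgroup G) = 4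
  have h5 : Nat.card P ∣ Nat.card G := card_subgroup_dvd_card _
  obtain ⟨k, hk⟩ := IsPGroup.iff_card.1 P.isPGroup'
  have h6 := (P : Subgroup G).card_mul_index
  have h7 : ¬ 2 ∣ (P : Subgroup G).index := by rw [hPN]; exact hodd
  rw [hk] at h6 ⊢
  -- `2 ^ k * odd ≡ 4 mod 8`
  match k, h6 with
  | 0, h6 => rw [pow_zero, one_mul] at h6; omega
  | 1, h6 => rw [pow_one] at h6; omega
  | 2, _ => norm_num
  | k + 3, h6 =>
    exfalso
    rw [pow_add] at h6
    have : 8 ∣ Nat.card G := ⟨2 ^ k * (P : Subgroup G).index, by rw [← h6]; ring⟩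
    omega

end

/-- The statement for the groups with a subgroup of index `2`. -/
def IdxTwo : Prop := ∀ (G : Type u) [Group G] [Finite G], k0 G = 4 → (∃ K : Subgroup G, K.index = 2) →
  ∀ P : Sylow 2 G, (commutator ↥P).index = 4

/-- A subgroup of index two from a normal subgroup `N` with `|G : N| ≡ 2 mod 4`. -/
theorem exists_index_two {G : Type u} [Group G] [Finite G] (N : Subgroup G) [N.Normal] (h : N.index % 4 = 2) :
    ∃ K : Subgroup G, K.index = 2 := by
  have hc : Nat.card (G ⧸ N) = N.index := (index_eq_card N).symm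
  have hmin : (Nat.card (G ⧸ N)).minFac = 2 := by
    rw [Nat.minFac_eq_two_iff, hc]
    omega
  let P : Sylow 2 (G ⧸ N) := default
  have hP : Nat.card P = 2 := by
    obtain ⟨k, hk⟩ := IsPGroup.iff_card.1 P.isPGroup'
    have h1 := (P : Subgroup (G ⧸ N)).card_mul_index
    have h2 := P.not_dvd_index
    rw [hk] at h1 ⊢
    match k, h1 with
    | 0, h1 => rw [pow_zero, one_mul, hc] at h1; omega
    | 1, _ => rfl
    | k + 2, h1 =>
      exfalso
      rw [pow_add, hc] at h1
      have : 4 ∣ N.index := ⟨2 ^ k * (P : Subgroup (G ⧸ N)).index, by rw [← h1]; ring⟩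
      omega
  have hcyc : IsCyclic P := isCyclic_of_prime_card hP
  have h3 := IsCyclic.isComplement' hmin hcyc
  have h4 := h3.symm.index_eq_card
  rw [hP] at h4
  refine ⟨(MonoidHom.transferSylow P (IsCyclic.normalizer_le_centralizer hmin hcyc)).ker.comap
    (QuotientGroup.mk' N), ?_⟩
  rw [index_comap_of_surjective _ (QuotientGroup.mk'_surjective N)]
  exact h4

/-- **The reduction of S4947 to the simple groups.** -/
theorem reduction (hidx : IdxTwo.{u})
    (hA : ∀ (S : Type u) [Group S] [Finite S] [IsSimpleGroup S], ¬ IsMulCommutative S → RowA S)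
    (G : Type u) [Group G] [Finite G] (h4 : k0 G = 4) (P : Sylow 2 G) : (commutator ↥P).index = 4 := by
  suffices H : ∀ (n : ℕ) (G : Type u) [Group G] [Finite G], Nat.card G = n → k0 G = 4 → ∀ P : Sylow 2 G,
      (commutator ↥P).index = 4 from H _ G rfl h4 P
  intro n
  induction n using Nat.strong_induction_on with
  | _ n ih =>
    intro G _ _ hn h4 P
    have h4G : 4 ∣ Nat.card G := by
      have := k0_mod G
      omega
    have : Nontrivial G := by
      rw [← Finite.one_lt_card_iff_nontrivial]
      exact lt_of_lt_of_le (by norm_num) (Nat.le_of_dvd Nat.card_pos h4G)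
    obtain ⟨N, hN, hNb, hmin⟩ := H364.exists_minimal_normal G
    by_cases hi : 4 ∣ N.index
    · -- the quotient
      have hk := k0_quot N h4 hi
      refine quot_step N (by rw [hk, h4]) P (ih (Nat.card (G ⧸ N)) ?_ (G ⧸ N) rfl hk)
      rw [← hn, ← N.card_mul_index, ← index_eq_card]
      have h1 : 1 < Nat.card N := (one_lt_card_iff_ne_bot N).2 hNb
      have h2 : 0 < N.index := Nat.pos_of_ne_zero index_ne_zero_of_finite
      nlinarith
    by_cases h2 : 2 ∣ N.index
    · exact hidx G h4 (exists_index_two N (by omega)) P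
    rcases minimal_cases N hNb hmin with ⟨r, hr, hrN⟩ | ⟨hcomp, -⟩
    · -- `N` is a `2`-group
      have hr2 : r = 2 := by
        by_contra hne
        have : Fact r.Prime := ⟨hr⟩
        obtain ⟨k, hk⟩ := IsPGroup.iff_card.1 hrN
        have h5 : (Nat.card N).Coprime 4 := by
          rw [hk, show (4 : ℕ) = 2 ^ 2 by norm_num]
          exact Nat.Coprime.pow _ _ ((Nat.coprime_primes hr Nat.prime_two).2 hne)
        rw [← N.card_mul_index] at h4G
        exact hi (h5.symm.dvd_of_dvd_mul_left h4G)
      subst hr2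
      refine abelian_case N h4 h2 ?_ hrN P
      have hcle : (⁅N, N⁆ : Subgroup G) ≤ N := commutator_le_left N N
      rcases hmin ⁅N, N⁆ inferInstance hcle with h | h
      · rw [commutator_eq_bot_iff_le_centralizer] at h
        intro a ha b hb
        exact (mem_centralizer_iff.1 (h ha) b hb).symm
      · exfalso
        have hnil : Group.IsNilpotent N := hrN.isNilpotent
        have hsol : Group.IsSolvable N := inferInstance
        have h5 : commutator N = ⊤ := by
          apply map_injective N.subtype_injective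
          rw [_root_.commutator_def, map_commutator, ← MonoidHom.range_eq_map, N.range_subtype, h]
        have hnt : Nontrivial N := (nontrivial_iff_ne_bot N).2 hNb
        exact (Group.IsSolvable.commutator_lt_top_of_nontrivial N).ne h5
    · -- `N` has a simple direct factor
      have h5 := k0_le_four N h4 h2
      by_cases hs : IsSimpleGroup N
      · have hna : ¬ IsMulCommutative N := by
          intro hab
          obtain ⟨S, -, -, hSna, -⟩ := hcomp
          exact hSna ⟨⟨fun a b => Subtype.ext (hab.is_comm.comm (a : N) b)⟩⟩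
        rcases hA N hna with h | h
        · have hPN : (P : Subgroup G) ≤ N := by
            have h6 : ¬ 2 ∣ N.index := h2
            intro x hx
            -- `x` is a `2`-element of odd order modulo `N`
            have h7 : (x : G ⧸ N) = 1 := by
              have h8 : orderOf (x : G ⧸ N) ∣ N.index := by
                rw [index_eq_card]
                exact orderOf_dvd_natCard _
              obtain ⟨k, hk⟩ := P.isPGroup' ⟨x, hx⟩
              have h9 : (x : G ⧸ N) ^ 2 ^ k = 1 := by
                have h10 : x ^ 2 ^ k = 1 := congrArg Subtype.val hk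
                have := congrArg (QuotientGroup.mk' N) h10
                simpa using this
              obtain ⟨j, -, hj⟩ := (Nat.dvd_prime_pow Nat.prime_two).1 (orderOf_dvd_of_pow_eq_one h9)
              rcases Nat.eq_zero_or_pos j with rfl | hpos
              · exact orderOf_eq_one_iff.1 hj
              · exact absurd ((dvd_pow_self 2 hpos.ne').trans (hj ▸ h8)) h2
            exact (QuotientGroup.eq_one_iff x).1 h7
          have h8 := h (P.subtype hPN)
          rw [← h8]
          exact index_commutator_congr (A := P) (B := (P.subtype hPN : Sylow 2 N))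
            (subgroupOfEquivOfLe hPN).symm
        · omega
      · have := (hcomp.five_le hs).1
        omega

end Cfsg.Agent.H714.K4
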