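import Cfsg.Agent.H714.K4.Basic
import Cfsg.Agent.S0188
import Cfsg.Agent.SmallSimple.EvenOrder
import Cfsg.Agent.S0205
import Cfsg.Agent.OddOrderCharacters.PF9.Reducible

/-!
# Four characters of odd degree (S4947, helper714): groups with a simple direct factor

* `oddK C` : the irreducible characters of odd degree with `C` in the kernel, `ncard_oddK`;
* `exists_fixed_ne` : parity of the fixed points of an involution;
* `isIrr_mul_of_sup` : products of characters with kernels containing `A`, `B`, `A B = N`;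
* `Comp N` : `N` is the direct product of a simple non-abelian group `S` and a group of order divisible by `4`
  (or `1`); `Comp.five_le`, `Comp.autB` : if `N` is not simple, `5 ≤ k0 N` and `AutB N`.
-/

set_option autoImplicit false

namespace Cfsg.Agent.H714.K4

open Cfsg Subgroup Cfsg.Agent.Characters.Core

universe u

variable {N : Type u} [Group N]

/-- The irreducible characters of odd degree with `C` in the kernel. -/
def oddK (C : Subgroup N) : Set (N → ℂ) := {χ | χ ∈ odd N ∧ ∀ c ∈ C, χ c = χ 1}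

theorem apply_mul_left [Finite N] {C : Subgroup N} {χ : N → ℂ} (h : χ ∈ oddK C) {c : N} (hc : c ∈ C) (x : N) :
    χ (c * x) = χ x := by
  obtain ⟨n, ρ, hρ, rfl⟩ := h.1.1
  have h1 : ρ c = LinearMap.id :=
    (Cfsg.Agent.Characters.Values.character_eq_finrank_iff ρ c).1 (by
      have := h.2 c hc
      rw [this, Representation.char_one])
  have h2 : ρ (c * x) = ρ x := by
    rw [map_mul, h1]
    rfl
  show LinearMap.trace ℂ _ (ρ (c * x)) = LinearMap.trace ℂ _ (ρ x)
  rw [h2]

theorem ncard_oddK [Finite N] (C : Subgroup N) [C.Normal] : (oddK C).ncard = k0 (N ⧸ C) := by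
  have h1 : (fun (ψ : N ⧸ C → ℂ) (g : N) => ψ (QuotientGroup.mk' C g)) '' odd (N ⧸ C) = oddK C := by
    apply Set.Subset.antisymm
    · rintro _ ⟨ψ, hψ, rfl⟩
      refine ⟨odd_comp (QuotientGroup.mk' C) (QuotientGroup.mk'_surjective C) hψ, fun c hc => ?_⟩
      have h5 : QuotientGroup.mk' C c = 1 := (QuotientGroup.eq_one_iff c).2 hc
      show ψ (QuotientGroup.mk' C c) = ψ (QuotientGroup.mk' C 1)
      rw [h5, map_one]
    · rintro χ ⟨h1, h2⟩
      obtain ⟨ψ, hψ, hψχ⟩ := OddOrderCharacters.PF9.Reducible.exists_of_surjective (QuotientGroup.mk' C)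
        (QuotientGroup.mk'_surjective C) h1.1 fun g hg => h2 g ((QuotientGroup.eq_one_iff g).1 hg)
      refine ⟨ψ, ⟨hψ, ?_⟩, funext hψχ⟩
      rw [← charDegree_comp (QuotientGroup.mk' C) ψ, funext hψχ]
      exact h1.2
  rw [← h1, Set.ncard_image_of_injective, ← k0_eq]
  intro α β hab
  funext q
  obtain ⟨g, rfl⟩ := QuotientGroup.mk'_surjective C q
  exact congrFun hab g

theorem one_mem_oddK (C : Subgroup N) : (1 : N → ℂ) ∈ oddK C := ⟨one_mem_odd, fun _ _ => rfl⟩

theorem oddK_finite [Finite N] (C : Subgroup N) : (oddK C).Finite := (odd_finite N).subset fun _ h => h.1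

theorem four_dvd_ncard [Finite N] (C : Subgroup N) [C.Normal] (h : 4 ∣ Nat.card (N ⧸ C)) :
    4 ∣ (oddK C).ncard := by
  rw [ncard_oddK]
  have := k0_mod (N ⧸ C)
  omega

theorem ncard_pos [Finite N] (C : Subgroup N) : 0 < (oddK C).ncard :=
  (Set.ncard_pos (oddK_finite C)).2 ⟨1, one_mem_oddK C⟩

theorem oddK_inter [Finite N] {A B : Subgroup N} [A.Normal] (h : A ⊔ B = ⊤) : oddK A ∩ oddK B = {1} := by
  apply Set.Subset.antisymm
  · rintro χ ⟨hA, hB⟩
    have h1 : ∀ x, χ x = χ 1 := by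
      intro x
      have hx : x ∈ A ⊔ B := by rw [h]; trivial
      rw [← SetLike.mem_coe, normal_mul] at hx
      obtain ⟨a, ha, b, hb, rfl⟩ := hx
      show χ (a * b) = χ 1
      rw [apply_mul_left hA ha, hB.2 b hb]
    rw [Set.mem_singleton_iff]
    -- a constant irreducible character is the trivial one
    have hne := isIrr_apply_one_ne_zero hA.1.1
    by_contra hcon
    have := Fintype.ofFinite N
    have h2 := classInner_irr_ne hA.1.1 (isIrr_one (G := N)) hcon
    have h3 : χ = χ 1 • (1 : N → ℂ) := by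
      funext x
      rw [h1 x, Pi.smul_apply, Pi.one_apply, smul_eq_mul, mul_one]
    rw [h3, classInner_smul_left, classInner_irr_self isIrr_one, mul_one] at h2
    exact hne h2
  · rintro _ rfl
    exact ⟨one_mem_oddK A, one_mem_oddK B⟩

/-- The parity of the number of fixed points. -/
theorem exists_fixed_ne {X : Type*} (Y : Set X) (hY : Y.Finite) (F : X → X) (hF : ∀ y ∈ Y, F y ∈ Y)
    (hFF : ∀ y ∈ Y, F (F y) = y) (h2 : 2 ∣ Y.ncard) {y₀ : X} (hy₀ : y₀ ∈ Y) (hfix : F y₀ = y₀) :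
    ∃ y₁ ∈ Y, y₁ ≠ y₀ ∧ F y₁ = y₁ := by
  classical
  have := hY.fintype
  let f : Function.End ↥Y := fun y => ⟨F y, hF y y.2⟩
  have hf : f ^ 2 ^ 1 = 1 := by
    rw [pow_one, pow_two]
    funext y
    exact Subtype.ext (hFF y y.2)
  have : Fact (Nat.Prime 2) := ⟨Nat.prime_two⟩
  have h1 := Equiv.Perm.card_fixedPoints_modEq (p := 2) hf
  have h3 : Fintype.card ↥Y = Y.ncard := by
    rw [← Nat.card_coe_set_eq, Nat.card_eq_fintype_card]
  rw [h3] at h1
  have h4 : 2 ∣ Fintype.card f.fixedPoints := by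
    have := Nat.ModEq.dvd_iff h1 (dvd_refl 2)
    exact this.1 h2
  have h5 : 0 < Fintype.card f.fixedPoints := Fintype.card_pos_iff.2 ⟨⟨⟨y₀, hy₀⟩, Subtype.ext hfix⟩⟩
  have h6 : 1 < Fintype.card f.fixedPoints := by
    obtain ⟨c, hc⟩ := h4
    omega
  obtain ⟨z, hz⟩ := Fintype.exists_ne_of_one_lt_card h6 ⟨⟨y₀, hy₀⟩, Subtype.ext hfix⟩
  refine ⟨z.1.1, z.1.2, fun h => hz (Subtype.ext (Subtype.ext h)), congrArg Subtype.val z.2⟩

/-- Products of characters with kernels containing `A`, `B`, `A B = N`. -/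
theorem isIrr_mul_of_sup [Finite N] {A B : Subgroup N} [A.Normal] [B.Normal] (h : A ⊔ B = ⊤) {α β : N → ℂ}
    (hα : IsIrrCharacter N α) (hβ : IsIrrCharacter N β) (hA : ∀ a ∈ A, α a = α 1) (hB : ∀ b ∈ B, β b = β 1) :
    IsIrrCharacter N (fun x => α x * β x) := by
  obtain ⟨α', hα', h1⟩ := OddOrderCharacters.PF9.Reducible.exists_of_surjective (QuotientGroup.mk' A)
    (QuotientGroup.mk'_surjective A) hα fun g hg => hA g ((QuotientGroup.eq_one_iff g).1 hg)
  obtain ⟨β', hβ', h2⟩ := OddOrderCharacters.PF9.Reducible.exists_of_surjective (QuotientGroup.mk' B)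
    (QuotientGroup.mk'_surjective B) hβ fun g hg => hB g ((QuotientGroup.eq_one_iff g).1 hg)
  have h3 := isIrr_comp ((QuotientGroup.mk' A).prod (QuotientGroup.mk' B)) (by
    rintro ⟨q, r⟩
    obtain ⟨x, rfl⟩ := QuotientGroup.mk'_surjective A q
    obtain ⟨y, rfl⟩ := QuotientGroup.mk'_surjective B r
    have hx : x⁻¹ * y ∈ A ⊔ B := by rw [h]; trivial
    rw [← SetLike.mem_coe, normal_mul] at hx
    obtain ⟨a, ha, b, hb, hab⟩ := hx
    have hab' : a * b = x⁻¹ * y := hab
    refine ⟨x * a, ?_⟩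
    apply Prod.ext
    · show QuotientGroup.mk' A (x * a) = QuotientGroup.mk' A x
      have h5 : QuotientGroup.mk' A a = 1 := (QuotientGroup.eq_one_iff a).2 ha
      rw [map_mul, h5, mul_one]
    · show QuotientGroup.mk' B (x * a) = QuotientGroup.mk' B y
      have h5 : QuotientGroup.mk' B b = 1 := (QuotientGroup.eq_one_iff b).2 hb
      have h6 : y = x * a * b := by rw [mul_assoc, hab']; group
      rw [h6, map_mul _ (x * a) b, h5, mul_one]) (S0188.isIrr_outer hα' hβ')
  have h4 : (fun x => α x * β x) =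
      (fun x : (N ⧸ A) × (N ⧸ B) => α' x.1 * β' x.2) ∘ ((QuotientGroup.mk' A).prod (QuotientGroup.mk' B)) := by
    funext x
    show α x * β x = α' (QuotientGroup.mk' A x) * β' (QuotientGroup.mk' B x)
    rw [h1, h2]
  rw [h4]
  exact h3

/-- `N` is the direct product of a simple non-abelian group and a group of order divisible by `4`, or `1`. -/
def Comp (N : Type u) [Group N] : Prop := ∃ S : Subgroup N, S.Normal ∧ IsSimpleGroup S ∧ ¬ IsMulCommutative S ∧
  S ⊔ centralizer (S : Set N) = ⊤ ∧ (centralizer (S : Set N) ≠ ⊥ → 4 ∣ Nat.card (centralizer (S : Set N)))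

theorem four_dvd {S : Type*} [Group S] [Finite S] [IsSimpleGroup S] (h : ¬ IsMulCommutative S) :
    4 ∣ Nat.card S := by
  refine SmallSimple.EvenOrder.four_dvd_card h ?_
  by_contra h2
  have h3 : Group.IsSolvable S := S0205.result (Nat.not_even_iff_odd.1 fun h => h2 h.two_dvd)
  exact h ⟨⟨fun a b => IsSimpleGroup.comm_iff_isSolvable.2 h3 a b⟩⟩

section comp

variable [Finite N] {S : Subgroup N}

omit [Finite N] in
/-- The center of the simple factor is trivial. -/
theorem inf_centralizer [IsSimpleGroup S] (hna : ¬ IsMulCommutative S) :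
    S ⊓ centralizer (S : Set N) = ⊥ := by
  have h1 : center S = ⊥ := by
    rcases (inferInstance : (center S).Normal).eq_bot_or_eq_top with h | h
    · exact h
    · exact absurd ⟨⟨fun a b => (mem_center_iff.1 (by rw [h]; trivial : b ∈ center S) a)⟩⟩ hna
  rw [eq_bot_iff]
  rintro x ⟨hx, hxc⟩
  have h2 : (⟨x, hx⟩ : S) ∈ center S := by
    rw [mem_center_iff]
    intro g
    exact Subtype.ext (mem_centralizer_iff.1 hxc g g.2)
  rw [h1, mem_bot] at h2
  exact congrArg Subtype.val h2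

omit [Finite N] in
theorem card_quot_centralizer [S.Normal] [IsSimpleGroup S] (hna : ¬ IsMulCommutative S)
    (htop : S ⊔ centralizer (S : Set N) = ⊤) :
    Nat.card (N ⧸ centralizer (S : Set N)) = Nat.card S ∧ Nat.card (N ⧸ S) = Nat.card (centralizer (S : Set N)) := by
  have h1 : IsComplement' S (centralizer (S : Set N)) := by
    apply isComplement'_of_disjoint_and_mul_eq_univ
    · rw [disjoint_iff, inf_centralizer hna]
    · rw [← normal_mul, htop]
      rfl
  have h2 := h1.index_eq_card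
  have h3 := h1.symm.index_eq_card
  rw [index_eq_card] at h2 h3
  exact ⟨h2, h3⟩

theorem five_le_of [S.Normal] [IsSimpleGroup S] (hna : ¬ IsMulCommutative S)
    (htop : S ⊔ centralizer (S : Set N) = ⊤) (h4 : 4 ∣ Nat.card (centralizer (S : Set N))) : 5 ≤ k0 N := by
  obtain ⟨c1, c2⟩ := card_quot_centralizer hna htop
  have h1 := four_dvd_ncard (centralizer (S : Set N)) (by rw [c1]; exact four_dvd hna)
  have h2 := four_dvd_ncard S (by rw [c2]; exact h4)
  have p1 := ncard_pos (centralizer (S : Set N))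
  have p2 := ncard_pos S
  have h3 := Set.ncard_union_add_ncard_inter (oddK S) (oddK (centralizer (S : Set N))) (oddK_finite _)
    (oddK_finite _)
  rw [oddK_inter htop, Set.ncard_singleton] at h3
  have h5 : (oddK S ∪ oddK (centralizer (S : Set N))).ncard ≤ (odd N).ncard :=
    Set.ncard_le_ncard (Set.union_subset (fun _ h => h.1) fun _ h => h.1) (odd_finite N)
  rw [k0_eq]
  omega

omit [Finite N] in
/-- The action of an automorphism on the characters with `C` in the kernel. -/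
theorem comp_mem_oddK {C D : Subgroup N} (τ : N ≃* N) (h : ∀ d ∈ D, τ d ∈ C) {χ : N → ℂ} (hχ : χ ∈ oddK C) :
    (fun x => χ (τ x)) ∈ oddK D := by
  refine ⟨odd_comp τ.toMonoidHom τ.surjective hχ.1, fun d hd => ?_⟩
  show χ (τ d) = χ (τ 1)
  rw [map_one, hχ.2 _ (h d hd)]

theorem exists_fixed_char (C : Subgroup N) [C.Normal] (h4 : 4 ∣ Nat.card (N ⧸ C)) (τ : N ≃* N) (n₀ : N)
    (hτ : ∀ x, τ (τ x) = n₀ * x * n₀⁻¹) (hC : ∀ c ∈ C, τ c ∈ C) :
    ∃ θ ∈ oddK C, θ ≠ 1 ∧ ∀ x, θ (τ x) = θ x := by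
  obtain ⟨θ, h1, h2, h3⟩ := exists_fixed_ne (oddK C) (oddK_finite C) (fun χ x => χ (τ x))
    (fun χ hχ => comp_mem_oddK τ hC hχ) (fun χ hχ => by
      funext x
      show χ (τ (τ x)) = χ x
      rw [hτ]
      exact isIrr_isClassFunction hχ.1.1 x n₀) ((by norm_num : 2 ∣ 4).trans (four_dvd_ncard C h4))
    (one_mem_oddK C) rfl
  exact ⟨θ, h1, h2, fun x => congrFun h3 x⟩

/-- The automorphism normalizes the simple factor. -/
theorem threeFix_of_stable [S.Normal] [IsSimpleGroup S] (hna : ¬ IsMulCommutative S)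
    (htop : S ⊔ centralizer (S : Set N) = ⊤) (h4 : 4 ∣ Nat.card (centralizer (S : Set N))) (τ : N ≃* N) (n₀ : N)
    (hτ : ∀ x, τ (τ x) = n₀ * x * n₀⁻¹) (hS : ∀ s ∈ S, τ s ∈ S) : ThreeFixAut τ := by
  obtain ⟨c1, c2⟩ := card_quot_centralizer hna htop
  have hS' : ∀ s, τ s ∈ S → s ∈ S := by
    intro s hs
    have h1 := hS _ hs
    rw [hτ] at h1
    have h2 := (inferInstance : S.Normal).conj_mem _ h1 n₀⁻¹
    have h3 : n₀⁻¹ * (n₀ * s * n₀⁻¹) * n₀⁻¹⁻¹ = s := by group
    rwa [h3] at h2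
  have hC : ∀ c ∈ centralizer (S : Set N), τ c ∈ centralizer (S : Set N) := by
    intro c hc
    rw [mem_centralizer_iff]
    intro s hs
    have h1 : τ.symm s ∈ S := hS' _ (by rwa [τ.apply_symm_apply])
    have h2 := congrArg τ (mem_centralizer_iff.1 hc _ h1)
    rwa [map_mul, map_mul, τ.apply_symm_apply] at h2
  obtain ⟨α, hα, hα1, hα2⟩ := exists_fixed_char (centralizer (S : Set N)) (by rw [c1]; exact four_dvd hna) τ n₀ hτ hC
  obtain ⟨β, hβ, hβ1, hβ2⟩ := exists_fixed_char S (by rw [c2]; exact h4) τ n₀ hτ hS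
  refine ⟨1, α, β, hα1.symm, hβ1.symm, ?_, ?_⟩
  · rintro rfl
    have h1 : α ∈ oddK S ∩ oddK (centralizer (S : Set N)) := ⟨hβ, hα⟩
    rw [oddK_inter htop] at h1
    exact hα1 h1
  · rintro θ (rfl | rfl | rfl)
    · exact ⟨one_mem_odd, fun _ => rfl⟩
    · exact ⟨hα.1, hα2⟩
    · exact ⟨hβ.1, hβ2⟩

/-- The automorphism does not normalize the simple factor. -/
theorem threeFix_of_not_stable [hSn : S.Normal] [hSs : IsSimpleGroup S] (hna : ¬ IsMulCommutative S)
    (htop : S ⊔ centralizer (S : Set N) = ⊤) (τ : N ≃* N) (n₀ : N)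
    (hτ : ∀ x, τ (τ x) = n₀ * x * n₀⁻¹) (hS : ¬ ∀ s ∈ S, τ s ∈ S) : ThreeFixAut τ := by
  classical
  -- `S` and `τ S` commute
  have hcom : ∀ s ∈ S, ∀ r ∈ S, τ s * r = r * τ s := by
    have hn : (S.comap τ.toMonoidHom).Normal := hSn.comap _
    have h1 : S ⊓ S.comap τ.toMonoidHom = ⊥ := by
      have h2 : ((S.comap τ.toMonoidHom).subgroupOf S).Normal := inferInstance
      rcases h2.eq_bot_or_eq_top with h | h
      · rwa [subgroupOf_eq_bot, disjoint_iff, inf_comm] at h
      · exfalso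
        apply hS
        intro s hs
        rw [subgroupOf_eq_top] at h
        exact h hs
    intro s hs r hr
    -- the commutator of `τ⁻¹ r` and `s`
    have h3 : ∀ a ∈ S, ∀ b ∈ S.comap τ.toMonoidHom, a * b = b * a := by
      intro a ha b hb
      have h4 : a * b * a⁻¹ * b⁻¹ ∈ S ⊓ S.comap τ.toMonoidHom := by
        refine ⟨?_, ?_⟩
        · have := hSn.conj_mem _ (inv_mem ha) b
          have h5 : a * b * a⁻¹ * b⁻¹ = a * (b * a⁻¹ * b⁻¹) := by group
          rw [h5]
          exact mul_mem ha this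
        · have := hn.conj_mem _ hb a
          exact (S.comap τ.toMonoidHom).mul_mem this ((S.comap τ.toMonoidHom).inv_mem hb)
      rw [h1, mem_bot] at h4
      have h6 : a * b = (a * b * a⁻¹ * b⁻¹) * (b * a) := by group
      rw [h6, h4, one_mul]
    have h7 : τ.symm r ∈ S.comap τ.toMonoidHom := by
      show τ (τ.symm r) ∈ S
      rwa [τ.apply_symm_apply]
    have h8 := congrArg τ (h3 s hs _ h7)
    rwa [map_mul, map_mul, τ.apply_symm_apply] at h8
  -- the second kernel
  obtain ⟨D, hD⟩ : ∃ D : Subgroup N, D = (centralizer (S : Set N)).comap τ.toMonoidHom := ⟨_, rfl⟩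
  have hDn : D.Normal := by rw [hD]; exact Normal.comap inferInstance _
  have hSD : S ≤ D := by
    intro s hs
    rw [hD]
    show τ s ∈ centralizer (S : Set N)
    rw [mem_centralizer_iff]
    intro r hr
    exact (hcom s hs r hr).symm
  have hsup : centralizer (S : Set N) ⊔ D = ⊤ := by
    rw [eq_top_iff, ← htop, sup_comm]
    exact sup_le_sup_left hSD _
  obtain ⟨c1, -⟩ := card_quot_centralizer hna htop
  -- four characters
  have h4 : 4 ≤ (oddK (centralizer (S : Set N))).ncard := by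
    have h1 := four_dvd_ncard (centralizer (S : Set N)) (by rw [c1]; exact four_dvd hna)
    have h2 := ncard_pos (centralizer (S : Set N))
    omega
  obtain ⟨T, hT, hT3⟩ := Set.exists_subset_card_eq (s := oddK (centralizer (S : Set N))) (n := 3) (by omega)
  obtain ⟨α, β, γ, hαβ, hαγ, hβγ, rfl⟩ := Set.ncard_eq_three.1 hT3
  have hα : α ∈ oddK (centralizer (S : Set N)) := hT (by simp)
  have hβ : β ∈ oddK (centralizer (S : Set N)) := hT (by simp)
  have hγ : γ ∈ oddK (centralizer (S : Set N)) := hT (by simp)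
  -- the products
  have hDk : ∀ χ ∈ oddK (centralizer (S : Set N)), (fun x => χ (τ x)) ∈ oddK D := fun χ hχ =>
    comp_mem_oddK τ (fun d hd => by rw [hD] at hd; exact hd) hχ
  have key : ∀ χ ∈ oddK (centralizer (S : Set N)), (fun x => χ x * χ (τ x)) ∈ odd N ∧
      ∀ x, χ (τ x) * χ (τ (τ x)) = χ x * χ (τ x) := by
    intro χ hχ
    refine ⟨⟨isIrr_mul_of_sup hsup hχ.1.1 (hDk χ hχ).1.1 hχ.2 (hDk χ hχ).2, ?_⟩, fun x => ?_⟩
    · obtain ⟨n, -, hn⟩ := isIrr_apply_one hχ.1.1
      have h1 : charDegree χ = n := by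
        show ⌊(χ 1).re⌋₊ = n
        rw [hn, Complex.natCast_re, Nat.floor_natCast]
      have h2 : charDegree (fun x => χ x * χ (τ x)) = n * n := by
        show ⌊(χ 1 * χ (τ 1)).re⌋₊ = n * n
        rw [map_one, hn, ← Nat.cast_mul, Complex.natCast_re, Nat.floor_natCast]
      have h3 := hχ.1.2
      rw [h1] at h3
      rw [h2]
      intro h5
      rcases (Nat.prime_two.dvd_mul).1 h5 with h | h
      · exact h3 h
      · exact h3 h
    · rw [hτ, isIrr_isClassFunction hχ.1.1 x n₀, mul_comm]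
  have hinj : ∀ χ ∈ oddK (centralizer (S : Set N)), ∀ ψ ∈ oddK (centralizer (S : Set N)), χ ≠ ψ →
      (fun x => χ x * χ (τ x)) ≠ (fun x => ψ x * ψ (τ x)) := by
    intro χ hχ ψ hψ hne h
    apply hne
    have h1 : χ 1 = ψ 1 := by
      have h2 := congrFun h 1
      simp only [map_one] at h2
      obtain ⟨n, -, hn⟩ := isIrr_apply_one hχ.1.1
      obtain ⟨m, -, hm⟩ := isIrr_apply_one hψ.1.1
      rw [hn, hm] at h2 ⊢
      have h3 : n * n = m * m := by exact_mod_cast h2
      have h5 : n = m := Nat.mul_self_inj.1 h3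
      rw [h5]
    have h2 : ∀ s ∈ S, χ s = ψ s := by
      intro s hs
      have h3 := congrFun h s
      have h5 : χ (τ s) = χ 1 := by
        have := (hDk χ hχ).2 s (hSD hs)
        simpa using this
      have h6 : ψ (τ s) = ψ 1 := by
        have := (hDk ψ hψ).2 s (hSD hs)
        simpa using this
      have h7 : χ s * χ 1 = ψ s * χ 1 := by
        have h8 : χ s * χ (τ s) = ψ s * ψ (τ s) := h3
        rwa [h5, h6, ← h1] at h8
      exact mul_right_cancel₀ (isIrr_apply_one_ne_zero hχ.1.1) h7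
    funext x
    have hx : x ∈ centralizer (S : Set N) ⊔ S := by rw [sup_comm, htop]; trivial
    rw [← SetLike.mem_coe, normal_mul] at hx
    obtain ⟨c, hc, s, hs, rfl⟩ := hx
    show χ (c * s) = ψ (c * s)
    rw [apply_mul_left hχ hc, apply_mul_left hψ hc]
    exact h2 s hs
  refine ⟨_, _, _, hinj α hα β hβ hαβ, hinj α hα γ hγ hαγ, hinj β hβ γ hγ hβγ, ?_⟩
  rintro θ (rfl | rfl | rfl)
  · exact key α hα
  · exact key β hβ
  · exact key γ hγ

end comp

theorem Comp.five_le [Finite N] (h : Comp N) (hs : ¬ IsSimpleGroup N) : 5 ≤ k0 N ∧ AutB N := by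
  obtain ⟨S, h1, h2, h3, h4, h5⟩ := h
  have hC : centralizer (S : Set N) ≠ ⊥ := by
    intro hC
    rw [hC, sup_bot_eq] at h4
    apply hs
    rw [h4] at h2
    exact (topEquiv (G := N)).symm.isSimpleGroup
  refine ⟨five_le_of h3 h4 (h5 hC), ?_⟩
  rintro τ ⟨n₀, hτ⟩
  by_cases hS : ∀ s ∈ S, τ s ∈ S
  · exact threeFix_of_stable h3 h4 (h5 hC) τ n₀ hτ hS
  · exact threeFix_of_not_stable h3 h4 τ n₀ hτ hS

end Cfsg.Agent.H714.K4
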