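import Cfsg.Agent.H714.K4.Defs
import Cfsg.Agent.H686.CharKit
import Cfsg.Agent.H627.PrincipalCount
import Cfsg.Agent.S0165

/-!
# Four characters of odd degree (S4947, helper714): counting

* `k0_mod` : `k0 G` is congruent to `|G|` modulo `4`;
* `four_le_k0` : `4 ≤ k0 G` if `4 ∣ |G|`;
* `exists_sign`, `card_cent` : groups `Q` with `|Q| ≡ 2 mod 4` and `k0 Q = 2`.
-/

set_option autoImplicit false

namespace Cfsg.Agent.H714.K4

open Cfsg Subgroup Cfsg.Agent.Characters.Core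
open scoped ComplexConjugate

universe u

variable {G : Type u} [Group G]

theorem one_mem_odd : (1 : G → ℂ) ∈ odd G := by
  refine ⟨isIrr_one, ?_⟩
  have h1 : charDegree (1 : G → ℂ) = 1 := by
    show ⌊((1 : G → ℂ) 1).re⌋₊ = 1
    simp
  rw [h1]
  norm_num

theorem k0_pos (G : Type u) [Group G] [Finite G] : 1 ≤ k0 G := by
  rw [k0_eq, Nat.one_le_iff_ne_zero]
  intro h
  rw [Set.ncard_eq_zero (odd_finite G)] at h
  have h1 : (1 : G → ℂ) ∈ odd G := one_mem_odd
  rw [h] at h1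
  exact h1

theorem k0_mod (G : Type u) [Group G] [Finite G] : k0 G % 4 = Nat.card G % 4 := by
  classical
  have := finite_irr (G := G)
  have := Fintype.ofFinite (IrrCharacter G)
  have h1 := Cfsg.Agent.H686.CharKit.sum_deg_sq (G := G)
  have h2 : k0 G = (Finset.univ.filter fun χ : IrrCharacter G => ¬ 2 ∣ charDegree (χ : G → ℂ)).card := by
    rw [k0, Nat.card_eq_fintype_card, Fintype.card_subtype]
  have h3 : ∑ χ : IrrCharacter G, charDegree (χ : G → ℂ) ^ 2 ≡
      ∑ χ : IrrCharacter G, (if ¬ 2 ∣ charDegree (χ : G → ℂ) then 1 else 0) [MOD 4] := by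
    apply Nat.ModEq.sum
    intro χ _
    by_cases h : 2 ∣ charDegree (χ : G → ℂ)
    · rw [if_neg (not_not.2 h)]
      obtain ⟨m, hm⟩ := h
      rw [hm]
      show (2 * m) ^ 2 % 4 = 0 % 4
      have : (2 * m) ^ 2 = 4 * m ^ 2 := by ring
      omega
    · rw [if_pos h]
      obtain ⟨m, hm⟩ : ∃ m, charDegree (χ : G → ℂ) = 2 * m + 1 := ⟨charDegree (χ : G → ℂ) / 2, by omega⟩
      rw [hm]
      show (2 * m + 1) ^ 2 % 4 = 1 % 4
      have : (2 * m + 1) ^ 2 = 4 * (m ^ 2 + m) + 1 := by ring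
      omega
  rw [h1, Finset.sum_boole] at h3
  rw [h2]
  exact h3.symm

theorem four_le_k0 [Finite G] (h : 4 ∣ Nat.card G) : 4 ≤ k0 G := by
  have h1 := k0_mod G
  have h2 := k0_pos G
  omega

/-- All the irreducible characters of degree one. -/
theorem hom_mem_odd (f : G →* ℂˣ) : (fun x => (f x : ℂ)) ∈ odd G := by
  refine ⟨Cfsg.Agent.Characters.Linear.isIrrCharacter_hom f, ?_⟩
  have h1 : charDegree (fun x => (f x : ℂ)) = 1 := by
    show ⌊((f 1 : ℂˣ) : ℂ).re⌋₊ = 1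
    simp
  rw [h1]
  norm_num

end Cfsg.Agent.H714.K4
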