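import Cfsg.Agent.H714.K4.Basic
import Cfsg.Agent.S4591

/-!
# Four characters of odd degree (S4947, helper714): the quotient step
-/

set_option autoImplicit false

namespace Cfsg.Agent.H714.K4

open Cfsg Subgroup Cfsg.Agent.Characters.Core

universe u

variable {G : Type u} [Group G] [Finite G]

theorem k0_quot (M : Subgroup G) [M.Normal] (h4 : k0 G = 4) (hM : 4 ∣ M.index) : k0 (G ⧸ M) = 4 := by
  have h1 := k0_le_of_surjective (QuotientGroup.mk' M) (QuotientGroup.mk'_surjective M)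
  have h2 := four_le_k0 (G := G ⧸ M) (by rwa [← index_eq_card])
  omega

/-- If the quotient has equally many characters of odd degree, they all come from it. -/
theorem odd_eq_of_k0_eq (M : Subgroup G) [M.Normal] (h : k0 (G ⧸ M) = k0 G) {χ : G → ℂ} (hχ : χ ∈ odd G) :
    ∃ ψ ∈ odd (G ⧸ M), (fun g : G => ψ (QuotientGroup.mk' M g)) = χ := by
  have h1 : (fun (ψ : G ⧸ M → ℂ) (g : G) => ψ (QuotientGroup.mk' M g)) '' odd (G ⧸ M) = odd G := by
    apply Set.eq_of_subset_of_ncard_le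
    · rintro _ ⟨ψ, hψ, rfl⟩
      exact odd_comp (QuotientGroup.mk' M) (QuotientGroup.mk'_surjective M) hψ
    · rw [Set.ncard_image_of_injective, ← k0_eq, ← k0_eq, h]
      intro α β hab
      funext q
      obtain ⟨g, rfl⟩ := QuotientGroup.mk'_surjective M q
      exact congrFun hab g
    · exact odd_finite G
  rw [← h1] at hχ
  exact hχ

theorem le_ppKer (M : Subgroup G) [M.Normal] (h : k0 (G ⧸ M) = k0 G) :
    M ≤ H628.PPrimeKer.ppKer 2 G := by
  intro m hm
  rw [H628.PPrimeKer.mem_ppKer]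
  intro χ hχ x
  obtain ⟨ψ, -, hψ⟩ := odd_eq_of_k0_eq M h (χ := χ) ⟨χ.2, hχ⟩
  rw [← hψ]
  show ψ (QuotientGroup.mk' M (m * x)) = ψ (QuotientGroup.mk' M x)
  have h5 : QuotientGroup.mk' M m = 1 := (QuotientGroup.eq_one_iff m).2 hm
  rw [map_mul, h5, one_mul]

/-- The quotient step. -/
theorem quot_step (M : Subgroup G) [M.Normal] (h : k0 (G ⧸ M) = k0 G) (P : Sylow 2 G)
    (hq : ∀ Q : Sylow 2 (G ⧸ M), (commutator ↥Q).index = 4) : (commutator ↥P).index = 4 := by
  have hs := QuotientGroup.mk'_surjective M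
  rw [← hq (P.mapSurjective hs)]
  refine index_commutator_of_surjective (B := (P.mapSurjective hs : Sylow 2 (G ⧸ M)))
    ((QuotientGroup.mk' M).subgroupMap (P : Subgroup G)) ((QuotientGroup.mk' M).subgroupMap_surjective _) ?_
  rintro ⟨x, hxP⟩ hx
  have hxM : x ∈ M := by
    have h1 : QuotientGroup.mk' M x = 1 := congrArg Subtype.val hx
    exact (QuotientGroup.eq_one_iff x).1 h1
  obtain ⟨y, hy, hyx⟩ := S4591.inf_le P ⟨le_ppKer M h hxM, hxP⟩
  have h2 : y = ⟨x, hxP⟩ := Subtype.ext hyx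
  rwa [← h2]

end Cfsg.Agent.H714.K4
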